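import Groth.Agent.GRingFinLib.GRing
import Groth.Agent.NorLocLib.Basic
import Groth.Agent.S2644
import Groth.Agent.CohenLib.Normalization
import Groth.Agent.CatLib.Completion
import Groth.Prelude.Def_EGA4b

/-!
# Completions of local rings of finite algebras over local G-rings
-/

set_option autoImplicit false
set_option maxHeartbeats 1000000
set_option linter.style.haveILetI false

universe u

open TensorProduct IsLocalRing

namespace EtAlgCplLib

attribute [local instance] Algebra.TensorProduct.rightAlgebra in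
theorem finite_right (A R S : Type u) [CommRing A] [CommRing R] [CommRing S] [Algebra A R] [Algebra A S]
    [Module.Finite A R] : Module.Finite S (R ⊗[A] S) :=
  Module.Finite.equiv (AlgEquiv.ofRingEquiv (R := S) (f := (Algebra.TensorProduct.comm A S R).toRingEquiv) fun z => by
    rw [Algebra.TensorProduct.right_algebraMap_apply]; rfl).toLinearEquiv

theorem isDomain_of_normal_local {R : Type u} [CommRing R] [IsLocalRing R] (h : EGA4.IsNormalRing R) :
    IsDomain R ∧ IsIntegrallyClosed R := by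
  obtain ⟨hd, hc⟩ := h (maximalIdeal R)
  let e := (IsLocalization.atUnits R (maximalIdeal R).primeCompl (S := Localization.AtPrime (maximalIdeal R))
    (fun x hx => by simpa [IsUnit.mem_submonoid_iff] using hx)).toRingEquiv
  exact ⟨MulEquiv.isDomain (Localization.AtPrime (maximalIdeal R)) e.toMulEquiv, IsIntegrallyClosed.of_equiv e.symm⟩

theorem isNormalRing_of_domain (R : Type u) [CommRing R] [IsDomain R] [IsIntegrallyClosed R] :
    EGA4.IsNormalRing R := fun p _ =>
  ⟨IsLocalization.isDomain_localization p.primeCompl_le_nonZeroDivisors,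
    isIntegrallyClosed_of_isLocalization _ p.primeCompl p.primeCompl_le_nonZeroDivisors⟩

theorem geomNormal_of_isRegularHom {A : Type u} [CommRing A] [IsLocalRing A]
    (h : CAlg.IsRegularHom A (EGA4.Cpl A)) : EGA4.HasGeomNormalFormalFibres A := fun p _ k' _ _ hk' => by
  haveI := (h.2 p).2 k' hk'
  exact NorLocLib.isNormalRing_of_isRegularRing _

/-- The completion of a normal local domain with regular formal fibres is a normal domain. -/
theorem normal_cpl {A : Type u} [CommRing A] [IsLocalRing A] [IsNoetherianRing A] [IsDomain A] [IsIntegrallyClosed A]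
    (h : CAlg.IsRegularHom A (EGA4.Cpl A)) : IsDomain (EGA4.Cpl A) ∧ IsIntegrallyClosed (EGA4.Cpl A) :=
  isDomain_of_normal_local ((Groth.Agent.S2644.result A (geomNormal_of_isRegularHom h)).1 (isNormalRing_of_domain A))

theorem isRegularHom_of_excellent (A : Type u) [CommRing A] [IsLocalRing A] (h : EGA4.IsExcellent A) :
    CAlg.IsRegularHom A (EGA4.Cpl A) := by
  haveI := h.1
  let m := maximalIdeal A
  let R₀ := Localization.AtPrime m
  let e := IsLocalization.atUnits A m.primeCompl (S := R₀)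
    (fun x hx => by simpa [m, IsUnit.mem_submonoid_iff] using hx)
  letI : Algebra R₀ A := e.symm.toRingEquiv.toRingHom.toAlgebra
  haveI : Module.Finite R₀ A := Module.Finite.of_surjective (Algebra.linearMap R₀ A) e.symm.surjective
  haveI : IsNoetherianRing R₀ := IsLocalization.isNoetherianRing m.primeCompl _ inferInstance
  haveI : IsLocalization.AtPrime A m :=
    IsLocalization.isLocalization_of_algEquiv m.primeCompl e.symm
  exact GRingFinLib.isRegularHom_cpl_of_finite R₀ A A m (h.2.2.1.2 m)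

/-- Completion of the local ring of a finite algebra: two maps from the completion of the base agree. -/
theorem hom_ext {R C' : Type u} [CommRing R] [IsLocalRing R] [IsNoetherianRing R] [CommRing C'] [IsLocalRing C']
    [IsNoetherianRing C'] (θ : R →+* C') (hθ : (maximalIdeal R).map θ ≤ maximalIdeal C')
    (f g : EGA4.Cpl R →+* EGA4.Cpl C')
    (hf : ∀ r, f (algebraMap R (EGA4.Cpl R) r) = algebraMap C' (EGA4.Cpl C') (θ r))
    (hg : ∀ r, g (algebraMap R (EGA4.Cpl R) r) = algebraMap C' (EGA4.Cpl C') (θ r)) : f = g := by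
  have hmC : (maximalIdeal C').FG := IsNoetherian.noetherian _
  have hH : (maximalIdeal C').map (algebraMap C' (EGA4.Cpl C')) = maximalIdeal (EGA4.Cpl C') :=
    (AdicCompletion.maximalIdeal_eq_map ..).symm
  haveI : IsAdicComplete (maximalIdeal (EGA4.Cpl C')) (EGA4.Cpl C') := hH ▸ AdicRingLib.isAdicComplete_map hmC
  refine CompleteLib.completion_hom_ext (maximalIdeal R) (maximalIdeal (EGA4.Cpl C')) (IsNoetherian.noetherian _) f g
    ?_ fun r => (hf r).trans (hg r).symm
  rw [show f.comp (algebraMap R (EGA4.Cpl R)) = (algebraMap C' (EGA4.Cpl C')).comp θ from RingHom.ext hf,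
    ← Ideal.map_map, ← hH]
  exact Ideal.map_mono hθ

variable {R C C' : Type u} [CommRing R] [IsLocalRing R] [IsNoetherianRing R] [CommRing C] [Algebra R C]
  [Module.Finite R C] (n : Ideal C) [n.IsMaximal] [CommRing C'] [IsLocalRing C'] [IsNoetherianRing C'] [Algebra C C']
  [IsLocalization.AtPrime C' n]

include n in
theorem map_maximalIdeal_le :
    (maximalIdeal R).map ((algebraMap C C').comp (algebraMap R C)) ≤ maximalIdeal C' := by
  haveI : Algebra.IsIntegral R C := Algebra.IsIntegral.of_finite R C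
  refine Ideal.map_le_iff_le_comap.2 fun r hr => ?_
  show algebraMap C C' (algebraMap R C r) ∈ maximalIdeal C'
  rw [← Ideal.mem_comap, show (maximalIdeal C').comap (algebraMap C C') = n from
      IsLocalization.AtPrime.under_maximalIdeal C' n, ← Ideal.mem_comap,
      IsLocalRing.eq_maximalIdeal (Ideal.isMaximal_comap_of_isIntegral_of_isMaximal (R := R) n)]
  exact hr

include n in
theorem surjective_lift (ψ : EGA4.Cpl R →+* EGA4.Cpl C')
    (hψ : ∀ r, ψ (algebraMap R (EGA4.Cpl R) r) = algebraMap C' (EGA4.Cpl C') (algebraMap C C' (algebraMap R C r))) :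
    ∃ g : C ⊗[R] EGA4.Cpl R →+* EGA4.Cpl C', Function.Surjective g ∧
      (∀ c, g (c ⊗ₜ 1) = algebraMap C' (EGA4.Cpl C') (algebraMap C C' c)) ∧ (∀ a, g (1 ⊗ₜ a) = ψ a) := by
  obtain ⟨M, hM, e, he⟩ := GRingFinLib.exists_cpl_equiv R C C' n
  haveI := AdicRingLib.isNoetherianRing_adicCompletion (maximalIdeal R)
  haveI := AdicRingLib.isNoetherianRing_adicCompletion (maximalIdeal C')
  let T := C ⊗[R] EGA4.Cpl R
  let L := Localization.AtPrime M
  let g : T →+* EGA4.Cpl C' := e.symm.toRingHom.comp (algebraMap T L)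
  have hg1 : ∀ c, g (c ⊗ₜ 1) = algebraMap C' (EGA4.Cpl C') (algebraMap C C' c) := fun c =>
    e.symm_apply_eq.2 (he c).symm
  let f : EGA4.Cpl R →+* EGA4.Cpl C' :=
    g.comp (Algebra.TensorProduct.includeRight : EGA4.Cpl R →ₐ[R] T).toRingHom
  have hf : ∀ r, f (algebraMap R (EGA4.Cpl R) r) = algebraMap C' (EGA4.Cpl C') (algebraMap C C' (algebraMap R C r)) := by
    intro r
    rw [← hg1]
    refine congrArg g ?_
    show (1 : C) ⊗ₜ[R] algebraMap R (EGA4.Cpl R) r = algebraMap R C r ⊗ₜ[R] 1
    rw [Algebra.algebraMap_eq_smul_one, Algebra.algebraMap_eq_smul_one, TensorProduct.smul_tmul]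
  have hfψ : f = ψ := hom_ext ((algebraMap C C').comp (algebraMap R C)) (map_maximalIdeal_le n) f ψ hf hψ
  refine ⟨g, ?_, hg1, fun a => by rw [← hfψ]; rfl⟩
  -- surjectivity
  have hR : (maximalIdeal R).map (algebraMap R (EGA4.Cpl R)) = maximalIdeal (EGA4.Cpl R) :=
    (AdicCompletion.maximalIdeal_eq_map ..).symm
  haveI : IsAdicComplete (maximalIdeal (EGA4.Cpl R)) (EGA4.Cpl R) :=
    hR ▸ AdicRingLib.isAdicComplete_map (IsNoetherian.noetherian _)
  haveI : HenselianRing (EGA4.Cpl R) (maximalIdeal (EGA4.Cpl R)) := inferInstance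
  haveI : HenselianLocalRing (EGA4.Cpl R) := HenselLib.henselianLocalRing_of_henselianRing
  letI : Algebra (EGA4.Cpl R) T := Algebra.TensorProduct.rightAlgebra
  haveI : Module.Finite (EGA4.Cpl R) T := finite_right R C (EGA4.Cpl R)
  have hMmax : M.IsMaximal := by
    haveI : Algebra.IsIntegral (EGA4.Cpl R) T := Algebra.IsIntegral.of_finite _ _
    refine Ideal.isMaximal_of_isIntegral_of_isMaximal_comap (R := EGA4.Cpl R) M ?_
    suffices M.comap (algebraMap (EGA4.Cpl R) T) = maximalIdeal (EGA4.Cpl R) by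
      rw [this]; exact maximalIdeal.isMaximal _
    refine le_antisymm (IsLocalRing.le_maximalIdeal (Ideal.IsPrime.ne_top inferInstance)) ?_
    rw [← hR, Ideal.map_le_iff_le_comap]
    intro r hr
    have h1 : g (algebraMap R C r ⊗ₜ 1) ∈ maximalIdeal (EGA4.Cpl C') := by
      rw [hg1, AdicCompletion.maximalIdeal_eq_map]
      exact Ideal.mem_map_of_mem _ (Ideal.map_le_iff_le_comap.1 (map_maximalIdeal_le (R := R) (C := C) (C' := C') n) hr)
    have h2 : algebraMap T L (algebraMap R C r ⊗ₜ 1) ∈ maximalIdeal L := by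
      rw [mem_maximalIdeal, mem_nonunits_iff] at h1 ⊢
      exact fun h => h1 (h.map e.symm.toRingHom)
    have h3 : algebraMap R C r ⊗ₜ[R] (1 : EGA4.Cpl R) ∈ M := (IsLocalization.AtPrime.to_map_mem_maximal_iff L M _).1 h2
    show (1 : C) ⊗ₜ[R] algebraMap R (EGA4.Cpl R) r ∈ M
    rwa [Algebra.algebraMap_eq_smul_one, ← TensorProduct.smul_tmul, ← Algebra.algebraMap_eq_smul_one]
  haveI := hMmax
  exact e.symm.surjective.comp (GRingFinLib.surjective_localization (R := EGA4.Cpl R) M)

include n in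
/-- The completion is generated by the completion of the base and the finite algebra. -/
theorem subring_eq_top (ψ : EGA4.Cpl R →+* EGA4.Cpl C')
    (hψ : ∀ r, ψ (algebraMap R (EGA4.Cpl R) r) = algebraMap C' (EGA4.Cpl C') (algebraMap C C' (algebraMap R C r)))
    (X : Subring (EGA4.Cpl C')) (h1 : ∀ a, ψ a ∈ X)
    (h2 : ∀ c : C, algebraMap C' (EGA4.Cpl C') (algebraMap C C' c) ∈ X) : X = ⊤ := by
  obtain ⟨g, hg, hg1, hg2⟩ := surjective_lift n ψ hψ
  refine top_le_iff.1 fun x _ => ?_
  obtain ⟨t, rfl⟩ := hg x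
  induction t using TensorProduct.induction_on with
  | zero => rw [map_zero]; exact zero_mem _
  | tmul c a =>
    rw [show c ⊗ₜ[R] a = (c ⊗ₜ[R] 1) * (1 ⊗ₜ[R] a) by rw [Algebra.TensorProduct.tmul_mul_tmul, mul_one, one_mul],
      map_mul, hg1, hg2]
    exact mul_mem (h2 c) (h1 a)
  | add a b ha hb => rw [map_add]; exact add_mem (ha trivial) (hb trivial)

include n in
theorem isIntegral_lift (ψ : EGA4.Cpl R →+* EGA4.Cpl C')
    (hψ : ∀ r, ψ (algebraMap R (EGA4.Cpl R) r) = algebraMap C' (EGA4.Cpl C') (algebraMap C C' (algebraMap R C r))) :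
    ψ.IsIntegral := by
  obtain ⟨g, hg, hg1, hg2⟩ := surjective_lift n ψ hψ
  letI : Algebra (EGA4.Cpl R) (C ⊗[R] EGA4.Cpl R) := Algebra.TensorProduct.rightAlgebra
  haveI : Module.Finite (EGA4.Cpl R) (C ⊗[R] EGA4.Cpl R) := finite_right R C (EGA4.Cpl R)
  have h : ψ = g.comp (algebraMap (EGA4.Cpl R) (C ⊗[R] EGA4.Cpl R)) := RingHom.ext fun a => (hg2 a).symm
  rw [h]
  exact RingHom.IsIntegral.trans _ g (fun x => Algebra.IsIntegral.isIntegral x) (RingHom.isIntegral_of_surjective g hg)

include n in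
/-- The completion of the base injects. -/
theorem injective_lift [IsDomain R] [IsIntegrallyClosed R] [IsDomain C] (hinj : Function.Injective (algebraMap R C))
    [IsDomain (EGA4.Cpl R)] [IsDomain (EGA4.Cpl C')] (ψ : EGA4.Cpl R →+* EGA4.Cpl C')
    (hψ : ∀ r, ψ (algebraMap R (EGA4.Cpl R) r) = algebraMap C' (EGA4.Cpl C') (algebraMap C C' (algebraMap R C r))) :
    Function.Injective ψ := by
  haveI : Algebra.IsIntegral R C := Algebra.IsIntegral.of_finite R C
  haveI : FaithfulSMul R C := (faithfulSMul_iff_algebraMap_injective R C).2 hinj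
  haveI : IsNoetherianRing C := IsNoetherianRing.of_finite R C
  haveI : n.LiesOver (maximalIdeal R) :=
    ⟨(IsLocalRing.eq_maximalIdeal (Ideal.isMaximal_comap_of_isIntegral_of_isMaximal (R := R) n)).symm⟩
  have hdim : ringKrullDim (EGA4.Cpl R) ≤ ringKrullDim (EGA4.Cpl C') := by
    rw [CatLib.ringKrullDim_cpl, CatLib.ringKrullDim_cpl,
      IsLocalization.AtPrime.ringKrullDim_eq_height n C', ← IsLocalRing.maximalIdeal_height_eq_ringKrullDim,
      Ideal.height_eq_height_add_of_liesOver_of_hasGoingDown (maximalIdeal R) n]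
    exact_mod_cast le_self_add
  let K := RingHom.ker ψ
  haveI : K.IsPrime := RingHom.ker_isPrime _
  letI : Algebra (EGA4.Cpl R ⧸ K) (EGA4.Cpl C') := (RingHom.kerLift ψ).toAlgebra
  haveI : Algebra.IsIntegral (EGA4.Cpl R ⧸ K) (EGA4.Cpl C') := ⟨fun x =>
    RingHom.IsIntegralElem.of_comp (f := Ideal.Quotient.mk K) (g := algebraMap (EGA4.Cpl R ⧸ K) (EGA4.Cpl C'))
      (by rw [show (algebraMap (EGA4.Cpl R ⧸ K) (EGA4.Cpl C')).comp (Ideal.Quotient.mk K) = ψ from
            RingHom.ext fun _ => rfl]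
          exact isIntegral_lift n ψ hψ x)⟩
  have hdim' : ringKrullDim (EGA4.Cpl R) ≤ ringKrullDim (EGA4.Cpl R ⧸ K) :=
    hdim.trans (CohenLib.ringKrullDim_le_of_isIntegral (EGA4.Cpl R ⧸ K) (EGA4.Cpl C'))
  rw [RingHom.injective_iff_ker_eq_bot]
  by_contra hK
  obtain ⟨x, hx, hx0⟩ := Submodule.exists_mem_ne_zero_of_ne_bot hK
  haveI := AdicRingLib.isNoetherianRing_adicCompletion (maximalIdeal R)
  have h1 := ringKrullDim_quotient_succ_le_of_nonZeroDivisor (mem_nonZeroDivisors_of_ne_zero hx0) (r := x)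
  have h2 : ringKrullDim (EGA4.Cpl R ⧸ K) ≤ ringKrullDim (EGA4.Cpl R ⧸ Ideal.span {x}) :=
    ringKrullDim_le_of_surjective (Ideal.Quotient.factor ((Ideal.span_singleton_le_iff_mem K).2 hx))
      (Ideal.Quotient.factor_surjective _)
  have h3 := (add_le_add (hdim'.trans h2) le_rfl).trans h1
  obtain ⟨d, hd⟩ := WithBot.ne_bot_iff_exists.1 (ringKrullDim_ne_bot (R := EGA4.Cpl R))
  have hne : d ≠ ⊤ := fun h => ringKrullDim_ne_top (R := EGA4.Cpl R) (hd.symm.trans (congrArg _ h))
  lift d to ℕ using hne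
  rw [← hd] at h3
  exact absurd (show d + 1 ≤ d by exact_mod_cast h3) (by omega)

end EtAlgCplLib
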