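import Groth.Agent.EtAlgCplLib.Setup
import Groth.Agent.GeomRedFibLib.CplMap

/-!
# Completions of local rings in a compositum
-/

set_option autoImplicit false
set_option maxHeartbeats 1000000
set_option linter.style.haveILetI false

universe u

open IsLocalRing

namespace EtAlgCplLib

theorem exists_psi {R A : Type u} [CommRing R] [IsLocalRing R] [IsNoetherianRing R] [CommRing A] [IsLocalRing A]
    [IsNoetherianRing A] (θ : R →+* A) (hθ : (maximalIdeal R).map θ ≤ maximalIdeal A) :
    ∃ ψ : EGA4.Cpl R →+* EGA4.Cpl A, ∀ r, ψ (algebraMap R (EGA4.Cpl R) r) = algebraMap A (EGA4.Cpl A) (θ r) := by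
  have hH : (maximalIdeal A).map (algebraMap A (EGA4.Cpl A)) = maximalIdeal (EGA4.Cpl A) :=
    (AdicCompletion.maximalIdeal_eq_map ..).symm
  haveI : IsAdicComplete (maximalIdeal (EGA4.Cpl A)) (EGA4.Cpl A) :=
    hH ▸ AdicRingLib.isAdicComplete_map (IsNoetherian.noetherian _)
  have hle : (maximalIdeal R).map ((algebraMap A (EGA4.Cpl A)).comp θ) ≤ maximalIdeal (EGA4.Cpl A) := by
    rw [← hH, ← Ideal.map_map]
    exact Ideal.map_mono hθ
  exact ⟨CompleteLib.completionLift (maximalIdeal R) (maximalIdeal (EGA4.Cpl A)) _ hle,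
    fun r => CompleteLib.completionLift_algebraMap (maximalIdeal R) (maximalIdeal (EGA4.Cpl A)) _ hle r⟩

theorem injective_algebraMap_cpl (A : Type u) [CommRing A] [IsLocalRing A] [IsNoetherianRing A] :
    Function.Injective (algebraMap A (EGA4.Cpl A)) := by
  haveI : Module.FaithfullyFlat A (EGA4.Cpl A) := GeomRedFibLib.faithfullyFlat_hat A
  exact FaithfulSMul.algebraMap_injective _ _

theorem separable_compositum {K L M Ω : Type u} [Field K] [Field L] [Field M] [Field Ω] [Algebra K L] [Algebra K M]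
    [Algebra K Ω] [Algebra L Ω] [Algebra M Ω] [IsScalarTower K L Ω] [IsScalarTower K M Ω]
    [FiniteDimensional K L] [FiniteDimensional K M] [Algebra.IsSeparable K L] [Algebra.IsSeparable K M]
    (hΩ : IntermediateField.adjoin K (Set.range (algebraMap L Ω) ∪ Set.range (algebraMap M Ω)) = ⊤) :
    FiniteDimensional K Ω ∧ Algebra.IsSeparable K Ω := by
  let EL := (IsScalarTower.toAlgHom K L Ω).fieldRange
  let EM := (IsScalarTower.toAlgHom K M Ω).fieldRange
  haveI : FiniteDimensional K EL :=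
    Module.Finite.equiv (AlgEquiv.ofInjectiveField (IsScalarTower.toAlgHom K L Ω)).toLinearEquiv
  haveI : FiniteDimensional K EM :=
    Module.Finite.equiv (AlgEquiv.ofInjectiveField (IsScalarTower.toAlgHom K M Ω)).toLinearEquiv
  have hsup : EL ⊔ EM = ⊤ := by
    refine top_le_iff.1 (hΩ ▸ IntermediateField.adjoin_le_iff.2 ?_)
    rintro _ (⟨l, rfl⟩ | ⟨m, rfl⟩)
    · exact (le_sup_left : EL ≤ EL ⊔ EM) ⟨l, rfl⟩
    · exact (le_sup_right : EM ≤ EL ⊔ EM) ⟨m, rfl⟩
  haveI := IntermediateField.finiteDimensional_sup EL EM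
  let e := (IntermediateField.equivOfEq hsup).trans IntermediateField.topEquiv
  refine ⟨Module.Finite.equiv e.toLinearEquiv, ?_⟩
  haveI : Algebra.IsSeparable K (IntermediateField.adjoin K (Set.range (algebraMap L Ω) ∪ Set.range (algebraMap M Ω))) := by
    refine (IntermediateField.isSeparable_adjoin_iff_isSeparable K Ω).2 ?_
    rintro _ (⟨l, rfl⟩ | ⟨l, rfl⟩)
    · exact (isSeparable_map_iff (IsScalarTower.toAlgHom K L Ω) (algebraMap L Ω).injective).2
        (Algebra.IsSeparable.isSeparable K l)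
    · exact (isSeparable_map_iff (IsScalarTower.toAlgHom K M Ω) (algebraMap M Ω).injective).2
        (Algebra.IsSeparable.isSeparable K l)
  exact AlgEquiv.Algebra.isSeparable ((IntermediateField.equivOfEq hΩ).trans IntermediateField.topEquiv)

variable {R K L M Ω : Type u} [CommRing R] [IsDomain R] [IsLocalRing R] [IsIntegrallyClosed R] [IsNoetherianRing R]
  [Field K] [Field L] [Field M] [Field Ω] [Algebra R K] [IsFractionRing R K] [Algebra K L] [Algebra K M] [Algebra K Ω]
  [Algebra L Ω] [Algebra M Ω] [IsScalarTower K L Ω] [IsScalarTower K M Ω]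
  [FiniteDimensional K L] [FiniteDimensional K M] [Algebra.IsSeparable K L] [Algebra.IsSeparable K M]
  [Algebra R L] [Algebra R M] [Algebra R Ω] [IsScalarTower R K L] [IsScalarTower R K M] [IsScalarTower R K Ω]
  [IsScalarTower R L Ω] [IsScalarTower R M Ω]
  {𝔪 : Ideal ↥(integralClosure R Ω)} [𝔪.IsMaximal] {A : Subalgebra R Ω}

set_option linter.unusedSectionVars false in
/-- A subring of the completion closed under quotients is everything when it contains the traces of the two fields. -/
theorem eq_top_of_traces (hΩ : IntermediateField.adjoin K (Set.range (algebraMap L Ω) ∪ Set.range (algebraMap M Ω)) = ⊤)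
    (hA : ∀ z : Ω, z ∈ A ↔ ∃ a b : ↥(integralClosure R Ω), b ∉ 𝔪 ∧ z * (b : Ω) = (a : Ω))
    [IsLocalRing ↥A] [IsNoetherianRing ↥A] [IsDomain (EGA4.Cpl ↥A)] (ψ : EGA4.Cpl R →+* EGA4.Cpl ↥A)
    (hψ : ∀ r, ψ (algebraMap R (EGA4.Cpl R) r) = algebraMap ↥A (EGA4.Cpl ↥A) (algebraMap R ↥A r))
    (D : Subring (EGA4.Cpl ↥A)) (hψD : ∀ a, ψ a ∈ fracClosure D)
    (hL : ∀ (x : L) (a : ↥A), (a : Ω) = algebraMap L Ω x → algebraMap ↥A (EGA4.Cpl ↥A) a ∈ fracClosure D)
    (hM : ∀ (x : M) (a : ↥A), (a : Ω) = algebraMap M Ω x → algebraMap ↥A (EGA4.Cpl ↥A) a ∈ fracClosure D) :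
    fracClosure D = ⊤ := by
  obtain ⟨_, _⟩ := separable_compositum hΩ
  let C := integralClosure R Ω
  letI : Algebra C ↥A := (Subalgebra.inclusion (closure_le hA)).toAlgebra
  haveI : IsLocalization.AtPrime ↥A 𝔪 := isLocalization_A hA
  haveI : Module.Finite R C := IsIntegralClosure.finite R K Ω C
  have hR : Function.Injective (algebraMap R ↥A) := fun r s h => by
    refine IsFractionRing.injective R K ((algebraMap K Ω).injective ?_)
    rw [← IsScalarTower.algebraMap_apply, ← IsScalarTower.algebraMap_apply]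
    exact congrArg (fun t : ↥A => (t : Ω)) h
  have hP : ∀ ω : Ω, ∃ (r : R) (a : ↥A), r ≠ 0 ∧ (a : Ω) = algebraMap R Ω r * ω ∧
      algebraMap ↥A (EGA4.Cpl ↥A) a ∈ fracClosure D := by
    intro ω
    have hω : ω ∈ Algebra.adjoin K (Set.range (algebraMap L Ω) ∪ Set.range (algebraMap M Ω)) := by
      rw [← IntermediateField.adjoin_toSubalgebra_of_isAlgebraic fun x _ => Algebra.IsAlgebraic.isAlgebraic x, hΩ]
      trivial
    induction hω using Algebra.adjoin_induction with
    | mem x hx =>
      rcases hx with ⟨l, rfl⟩ | ⟨l, rfl⟩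
      · obtain ⟨⟨r, hr⟩, hint⟩ := IsIntegral.exists_multiple_integral_of_isLocalization (nonZeroDivisors R) (Rₘ := K) l
          (Algebra.IsIntegral.isIntegral l)
        refine ⟨r, ⟨algebraMap R Ω r * algebraMap L Ω l, ?_⟩, nonZeroDivisors.ne_zero hr, rfl, ?_⟩
        · rw [IsScalarTower.algebraMap_apply R L Ω, ← map_mul]
          have h' : IsIntegral R (algebraMap R L r * l) := by rw [← Algebra.smul_def]; exact hint
          exact closure_le hA (IsIntegral.map (IsScalarTower.toAlgHom R L Ω) h')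
        · refine hL (algebraMap R L r * l) _ ?_
          show algebraMap R Ω r * algebraMap L Ω l = _
          rw [map_mul, ← IsScalarTower.algebraMap_apply]
      · obtain ⟨⟨r, hr⟩, hint⟩ := IsIntegral.exists_multiple_integral_of_isLocalization (nonZeroDivisors R) (Rₘ := K) l
          (Algebra.IsIntegral.isIntegral l)
        refine ⟨r, ⟨algebraMap R Ω r * algebraMap M Ω l, ?_⟩, nonZeroDivisors.ne_zero hr, rfl, ?_⟩
        · rw [IsScalarTower.algebraMap_apply R M Ω, ← map_mul]
          have h' : IsIntegral R (algebraMap R M r * l) := by rw [← Algebra.smul_def]; exact hint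
          exact closure_le hA (IsIntegral.map (IsScalarTower.toAlgHom R M Ω) h')
        · refine hM (algebraMap R M r * l) _ ?_
          show algebraMap R Ω r * algebraMap M Ω l = _
          rw [map_mul, ← IsScalarTower.algebraMap_apply]
    | algebraMap k =>
      obtain ⟨a, b, hb, rfl⟩ := IsFractionRing.div_surjective (A := R) k
      refine ⟨b, algebraMap R ↥A a, nonZeroDivisors.ne_zero hb, ?_, ?_⟩
      · rw [IsScalarTower.algebraMap_apply R K Ω b, ← map_mul, mul_div_cancel₀ _
          (IsFractionRing.to_map_ne_zero_of_mem_nonZeroDivisors hb), ← IsScalarTower.algebraMap_apply]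
        rfl
      · rw [← hψ]; exact hψD _
    | add x y _ _ hx hy =>
      obtain ⟨r, a, hr, ha, haD⟩ := hx
      obtain ⟨s, b, hs, hb, hbD⟩ := hy
      refine ⟨r * s, algebraMap R ↥A s * a + algebraMap R ↥A r * b, mul_ne_zero hr hs, ?_, ?_⟩
      · change algebraMap R Ω s * (a : Ω) + algebraMap R Ω r * (b : Ω) = _
        rw [ha, hb, map_mul]; ring
      · rw [map_add, map_mul, map_mul, ← hψ, ← hψ]
        exact add_mem (mul_mem (hψD _) haD) (mul_mem (hψD _) hbD)
    | mul x y _ _ hx hy =>
      obtain ⟨r, a, hr, ha, haD⟩ := hx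
      obtain ⟨s, b, hs, hb, hbD⟩ := hy
      refine ⟨r * s, a * b, mul_ne_zero hr hs, ?_, by rw [map_mul]; exact mul_mem haD hbD⟩
      change (a : Ω) * (b : Ω) = _
      rw [ha, hb, map_mul]; ring
  refine subring_eq_top (C := C) 𝔪 ψ (fun r => ?_) _ hψD fun c => ?_
  · rw [hψ]; rfl
  obtain ⟨r, a, hr, ha, haD⟩ := hP (c : Ω)
  have hac : algebraMap R ↥A r * algebraMap C ↥A c = a := Subtype.ext ha.symm
  refine mem_of_mul_mem (y := algebraMap ↥A (EGA4.Cpl ↥A) (algebraMap R ↥A r)) ?_ (hψ r ▸ hψD _) ?_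
  · rw [← map_mul, mul_comm, hac]; exact haD
  · exact fun h => hr (hR ((injective_algebraMap_cpl ↥A (h.trans (map_zero _).symm)).trans (map_zero _).symm))

end EtAlgCplLib
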