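import Mathlib

/-!
# Galois groups of compositum type extensions of normal domains
-/

set_option autoImplicit false
set_option maxHeartbeats 1000000

universe u

open Polynomial

namespace EtAlgCplLib

/-- The orbit polynomial comes from the invariants. -/
theorem exists_orbit_poly (R S G : Type u) [CommRing R] [CommRing S] [IsDomain S] [Algebra R S] [Group G] [Finite G]
    [MulSemiringAction G S] [Algebra.IsInvariant R S G] (s : S) :
    ∃ (O : Finset S) (q : R[X]), s ∈ O ∧ (∀ t ∈ O, ∃ g : G, g • s = t) ∧
      q.map (algebraMap R S) = ∏ t ∈ O, (X - C t) := by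
  classical
  cases nonempty_fintype G
  let O : Finset S := Finset.univ.image (fun g : G => g • s)
  have hfix : ∀ (g : G) (i : ℕ), g • (∏ t ∈ O, (X - C t)).coeff i = (∏ t ∈ O, (X - C t)).coeff i := by
    intro g i
    rw [← Polynomial.coeff_smul, Finset.smul_prod']
    congr 1
    refine Finset.prod_bij (fun t _ => g • t) (fun t ht => ?_) (fun a _ b _ h => smul_left_cancel g h)
      (fun t ht => ?_) (fun t _ => ?_)
    · obtain ⟨h, -, rfl⟩ := Finset.mem_image.1 ht
      exact Finset.mem_image.2 ⟨g * h, Finset.mem_univ _, mul_smul g h s⟩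
    · obtain ⟨h, -, rfl⟩ := Finset.mem_image.1 ht
      exact ⟨(g⁻¹ * h) • s, Finset.mem_image.2 ⟨_, Finset.mem_univ _, rfl⟩, by rw [mul_smul, smul_inv_smul]⟩
    · rw [smul_sub, Polynomial.smul_X, Polynomial.smul_C]
  have hlift : ∏ t ∈ O, (X - C t) ∈ Polynomial.lifts (algebraMap R S) := (Polynomial.lifts_iff_coeff_lifts _).2
    fun i => Algebra.IsInvariant.isInvariant (A := R) _ fun g => hfix g i
  obtain ⟨q, hq⟩ := Polynomial.mem_lifts _ |>.1 hlift
  exact ⟨O, q, Finset.mem_image.2 ⟨1, Finset.mem_univ _, one_smul G s⟩,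
    fun t ht => let ⟨g, _, hg⟩ := Finset.mem_image.1 ht; ⟨g, hg⟩, hq⟩

/-- An extension generated by roots of split separable polynomials is Galois. -/
theorem isGalois_of_roots {F E : Type u} [Field F] [Field E] [Algebra F E] (T : Set E)
    (hgen : IntermediateField.adjoin F T = ⊤)
    (hroot : ∀ z ∈ T, ∃ (O : Finset E) (p : F[X]), z ∈ O ∧ p.map (algebraMap F E) = ∏ t ∈ O, (X - C t)) :
    IsGalois F E := by
  classical
  have hdvd : ∀ z ∈ T, ∃ (O : Finset E) (p : F[X]), minpoly F z ∣ p ∧ p.Monic ∧ Polynomial.aeval z p = 0 ∧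
      p.map (algebraMap F E) = ∏ t ∈ O, (X - C t) := fun z hz => by
    obtain ⟨O, p, hzO, hp⟩ := hroot z hz
    have h0 : Polynomial.aeval z p = 0 := by
      rw [Polynomial.aeval_def, ← Polynomial.eval_map, hp, Polynomial.eval_prod]
      exact Finset.prod_eq_zero hzO (by simp)
    exact ⟨O, p, minpoly.dvd F z h0, Polynomial.monic_of_injective (algebraMap F E).injective
      (hp ▸ monic_prod_of_monic _ _ fun t _ => monic_X_sub_C _), h0, hp⟩
  have htop : ∀ z : E, z ∈ IntermediateField.adjoin F T := fun z => by rw [hgen]; exact IntermediateField.mem_top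
  haveI : Algebra.IsSeparable F (IntermediateField.adjoin F T) := by
    refine (IntermediateField.isSeparable_adjoin_iff_isSeparable F E).2 fun z hz => ?_
    obtain ⟨O, p, hd, -, -, hp⟩ := hdvd z hz
    refine Polynomial.Separable.of_dvd ?_ hd
    rw [← Polynomial.separable_map (algebraMap F E), hp, Polynomial.separable_prod_X_sub_C_iff']
    exact fun a _ b _ h => h
  haveI : Algebra.IsSeparable F E :=
    AlgEquiv.Algebra.isSeparable ((IntermediateField.equivOfEq hgen).trans IntermediateField.topEquiv)
  haveI : Normal F E := by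
    refine normal_iff.2 fun z => ⟨Algebra.IsIntegral.isIntegral z, ?_⟩
    refine IntermediateField.splits_of_mem_adjoin (F := F) (K := E) (L := E) (S := T) (fun t ht => ?_) (htop z)
    refine ⟨Algebra.IsIntegral.isIntegral _, ?_⟩
    obtain ⟨O, p, hd, -, -, hp⟩ := hdvd t ht
    refine Polynomial.Splits.of_dvd ?_ ?_ (Polynomial.map_dvd (algebraMap F E) hd)
    · rw [hp]
      exact Polynomial.Splits.prod fun t _ => Polynomial.Splits.X_sub_C _
    · rw [hp]
      exact (monic_prod_of_monic _ _ fun t _ => monic_X_sub_C _).ne_zero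
  exact ⟨⟩

variable {R S A B : Type u} [CommRing R] [CommRing S] [IsDomain R] [IsDomain S] [Algebra R S] [FaithfulSMul R S]
  [CommRing A] [CommRing B] [IsDomain A] [IsDomain B] [IsIntegrallyClosed A] [Algebra A B] [Algebra.IsIntegral A B]
  {G : Type u} [Group G] [Finite G] [MulSemiringAction G S] [IsGaloisGroup G R S]
  (j : R →+* A) (ι : S →+* B)

/-- An automorphism of the fraction field preserving the generators comes from the group. -/
theorem exists_of_aut {F E : Type u} [Field F] [Field E] [Algebra F E] [Algebra A F] [Algebra A E] [IsScalarTower A F E]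
    [Algebra B E] [IsScalarTower A B E] [IsFractionRing B E] (hι : Function.Injective ι)
    (hcomp : ∀ r, algebraMap A B (j r) = ι (algebraMap R S r))
    (hgen : ∀ X : Subring B, (∀ a, algebraMap A B a ∈ X) → (∀ s, ι s ∈ X) → X = ⊤)
    (hS : ∀ (τ : E ≃ₐ[F] E) (s : S), ∃ g : G, τ (algebraMap B E (ι s)) = algebraMap B E (ι (g • s)))
    (σ : E ≃ₐ[F] E) :
    ∃ (σ' : B ≃+* B) (g : G), (∀ a, σ' (algebraMap A B a) = algebraMap A B a) ∧ (∀ s, σ' (ι s) = ι (g • s)) ∧
      ∀ b, algebraMap B E (σ' b) = σ (algebraMap B E b) := by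
  have hB : ∀ (τ : E ≃ₐ[F] E) (b : B), ∃ b' : B, τ (algebraMap B E b) = algebraMap B E b' := by
    intro τ
    let X₀ : Subring B := (algebraMap B E).range.comap ((τ : E →+* E).comp (algebraMap B E))
    have hX : X₀ = ⊤ := hgen X₀ (fun a => ⟨algebraMap A B a, by
      show algebraMap B E (algebraMap A B a) = τ (algebraMap B E (algebraMap A B a))
      rw [← IsScalarTower.algebraMap_apply A B E, IsScalarTower.algebraMap_apply A F E, AlgEquiv.commutes]⟩)
      fun s => let ⟨g, hg⟩ := hS τ s; ⟨ι (g • s), hg.symm⟩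
    intro b
    obtain ⟨b', hb'⟩ := (show b ∈ X₀ by rw [hX]; trivial)
    exact ⟨b', hb'.symm⟩
  choose φ hφ using hB σ
  choose ψ hψ using hB σ.symm
  have hinv : ∀ b, φ (ψ b) = b ∧ ψ (φ b) = b := fun b => by
    constructor <;> apply IsFractionRing.injective B E
    · rw [← hφ, ← hψ, AlgEquiv.apply_symm_apply]
    · rw [← hψ, ← hφ, AlgEquiv.symm_apply_apply]
  let σ' : B ≃+* B :=
    { toFun := φ
      invFun := ψ
      left_inv := fun b => (hinv b).2
      right_inv := fun b => (hinv b).1
      map_mul' := fun a b => IsFractionRing.injective B E (by rw [← hφ, map_mul, map_mul, hφ, hφ, map_mul])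
      map_add' := fun a b => IsFractionRing.injective B E (by rw [← hφ, map_add, map_add, hφ, hφ, map_add]) }
  have hσA : ∀ a, σ' (algebraMap A B a) = algebraMap A B a := fun a => IsFractionRing.injective B E (by
    show algebraMap B E (φ (algebraMap A B a)) = _
    rw [← hφ, ← IsScalarTower.algebraMap_apply A B E, IsScalarTower.algebraMap_apply A F E, AlgEquiv.commutes])
  choose γ hγ using fun s => hS σ s
  choose γ' hγ' using fun s => hS σ.symm s
  let χ : S ≃ₐ[R] S :=
    { toFun := fun s => γ s • s
      invFun := fun s => γ' s • s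
      left_inv := fun s => hι (IsFractionRing.injective B E (by
        rw [← hγ', ← hγ, AlgEquiv.symm_apply_apply]))
      right_inv := fun s => hι (IsFractionRing.injective B E (by
        rw [← hγ, ← hγ', AlgEquiv.apply_symm_apply]))
      map_mul' := fun a b => hι (IsFractionRing.injective B E (by
        rw [← hγ, map_mul, map_mul, map_mul, hγ, hγ, map_mul, map_mul]))
      map_add' := fun a b => hι (IsFractionRing.injective B E (by
        rw [← hγ, map_add, map_add, map_add, hγ, hγ, map_add, map_add]))
      commutes' := fun r => hι (IsFractionRing.injective B E (by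
        rw [← hγ, ← hcomp, ← IsScalarTower.algebraMap_apply A B E, IsScalarTower.algebraMap_apply A F E,
          AlgEquiv.commutes])) }
  obtain ⟨g, hg⟩ := (IsGaloisGroup.mulEquivAlgEquiv G R S).surjective χ
  have hσS : ∀ s, σ' (ι s) = ι (g • s) := fun s => IsFractionRing.injective B E (by
    show algebraMap B E (φ (ι s)) = _
    rw [← hφ, hγ, show g • s = γ s • s from AlgEquiv.congr_fun hg s])
  exact ⟨σ', g, hσA, hσS, fun b => (hφ b).symm⟩

/-- Elements fixed by the decomposition group come from below. -/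
theorem mem_range_of_fixed (hAB : Function.Injective (algebraMap A B)) (hι : Function.Injective ι)
    (hcomp : ∀ r, algebraMap A B (j r) = ι (algebraMap R S r))
    (hgen : ∀ X : Subring B, (∀ a, algebraMap A B a ∈ X) → (∀ s, ι s ∈ X) → X = ⊤)
    (x : B) (hx : ∀ (σ : B ≃+* B) (g : G), (∀ a, σ (algebraMap A B a) = algebraMap A B a) →
      (∀ s, σ (ι s) = ι (g • s)) → σ x = x) :
    x ∈ Set.range (algebraMap A B) := by
  classical
  haveI : Algebra.IsInvariant R S G := IsGaloisGroup.isInvariant
  let F := FractionRing A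
  let E := FractionRing B
  haveI : FaithfulSMul A B := (faithfulSMul_iff_algebraMap_injective A B).2 hAB
  letI : Algebra F E := FractionRing.liftAlgebra A E
  have hroot : ∀ s : S, ∃ (O : Finset S) (p : F[X]), s ∈ O ∧ (∀ t ∈ O, ∃ g : G, g • s = t) ∧
      p.map (algebraMap F E) = ∏ t ∈ O, (X - C (algebraMap B E (ι t))) := by
    intro s
    obtain ⟨O, q, hsO, hO, hq⟩ := exists_orbit_poly R S G s
    refine ⟨O, q.map ((algebraMap A F).comp j), hsO, hO, ?_⟩
    have h1 : (algebraMap F E).comp ((algebraMap A F).comp j) = ((algebraMap B E).comp ι).comp (algebraMap R S) := by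
      ext r
      show algebraMap F E (algebraMap A F (j r)) = algebraMap B E (ι (algebraMap R S r))
      rw [← IsScalarTower.algebraMap_apply A F E, IsScalarTower.algebraMap_apply A B E, hcomp]
    rw [Polynomial.map_map, h1, ← Polynomial.map_map, hq, Polynomial.map_prod]
    exact Finset.prod_congr rfl fun t _ => by rw [Polynomial.map_sub, Polynomial.map_X, Polynomial.map_C]; rfl
  have hs_root : ∀ (s : S) (φ : E →ₐ[F] E), ∃ g : G, φ (algebraMap B E (ι s)) = algebraMap B E (ι (g • s)) := by
    intro s φ
    obtain ⟨O, p, hsO, hO, hp⟩ := hroot s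
    have h0 : Polynomial.aeval (algebraMap B E (ι s)) p = 0 := by
      rw [Polynomial.aeval_def, ← Polynomial.eval_map, hp, Polynomial.eval_prod]
      exact Finset.prod_eq_zero hsO (by simp)
    have h1 : Polynomial.aeval (φ (algebraMap B E (ι s))) p = 0 := by
      rw [Polynomial.aeval_algHom_apply, h0, map_zero]
    rw [Polynomial.aeval_def, ← Polynomial.eval_map, hp, Polynomial.eval_prod, Finset.prod_eq_zero_iff] at h1
    obtain ⟨t, ht, ht0⟩ := h1
    obtain ⟨g, hg⟩ := hO t ht
    rw [Polynomial.eval_sub, Polynomial.eval_X, Polynomial.eval_C, sub_eq_zero] at ht0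
    exact ⟨g, ht0.trans (by rw [hg])⟩
  let T : Set E := Set.range fun s => algebraMap B E (ι s)
  have hgenE : IntermediateField.adjoin F T = ⊤ := by
    let X₀ : Subring B := (IntermediateField.adjoin F T).toSubfield.toSubring.comap (algebraMap B E)
    have hX : X₀ = ⊤ := hgen X₀ (fun a => by
      show algebraMap B E (algebraMap A B a) ∈ IntermediateField.adjoin F T
      rw [← IsScalarTower.algebraMap_apply A B E, IsScalarTower.algebraMap_apply A F E]
      exact (IntermediateField.adjoin F T).algebraMap_mem _)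
      fun s => IntermediateField.subset_adjoin F T ⟨s, rfl⟩
    refine top_le_iff.1 fun z _ => ?_
    obtain ⟨a, b, -, rfl⟩ := IsFractionRing.div_surjective (A := B) z
    exact div_mem (show a ∈ X₀ by rw [hX]; trivial) (show b ∈ X₀ by rw [hX]; trivial)
  haveI hint : Algebra.IsAlgebraic F E := by
    rw [← IntermediateField.topEquiv.isAlgebraic_iff, ← hgenE]
    refine IntermediateField.isAlgebraic_adjoin ?_
    rintro _ ⟨s, rfl⟩
    obtain ⟨O, p, hsO, -, hp⟩ := hroot s
    refine ⟨p, ?_, by
      rw [← Polynomial.eval_map, hp, Polynomial.eval_prod]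
      exact Finset.prod_eq_zero hsO (by simp)⟩
    exact Polynomial.monic_of_injective (algebraMap F E).injective
      (hp ▸ monic_prod_of_monic _ _ fun t _ => monic_X_sub_C _)
  haveI : IsGalois F E := by
    refine isGalois_of_roots T hgenE ?_
    rintro _ ⟨s, rfl⟩
    obtain ⟨O, p, hsO, -, hp⟩ := hroot s
    refine ⟨O.image fun t => algebraMap B E (ι t), p, Finset.mem_image_of_mem _ hsO, ?_⟩
    rw [hp, Finset.prod_image fun a _ b _ h => hι (IsFractionRing.injective B E h)]
  have hfix : algebraMap B E x ∈ (⊥ : IntermediateField F E) := by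
    rw [InfiniteGalois.mem_bot_iff_fixed]
    intro σ
    obtain ⟨σ', g, h1, h2, h3⟩ := exists_of_aut j ι hι hcomp hgen (fun τ s => hs_root s τ.toAlgHom) σ
    rw [← h3, hx σ' g h1 h2]
  obtain ⟨y, hy⟩ := IntermediateField.mem_bot.1 hfix
  have hyint : IsIntegral A y := by
    rw [← isIntegral_algebraMap_iff (A := F) (B := E) (algebraMap F E).injective, hy]
    exact (Algebra.IsIntegral.isIntegral x).map (IsScalarTower.toAlgHom A B E)
  obtain ⟨a, ha⟩ := IsIntegrallyClosed.algebraMap_eq_of_integral hyint
  exact ⟨a, IsFractionRing.injective B E (by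
    rw [← hy, ← ha, ← IsScalarTower.algebraMap_apply A B E, ← IsScalarTower.algebraMap_apply A F E])⟩

end EtAlgCplLib
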