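import Groth.Agent.EtAlgCplLib.Compositum

/-!
# Local rings of integral closures: normality and completion
-/

set_option autoImplicit false
set_option maxHeartbeats 1000000
set_option linter.style.haveILetI false

universe u

open IsLocalRing

namespace EtAlgCplLib

theorem isMaximal_comap (R L : Type u) {Ω : Type u} [CommRing R] [Field L] [Field Ω] [Algebra R L] [Algebra L Ω]
    [Algebra R Ω] [IsScalarTower R L Ω] (𝔪 : Ideal ↥(integralClosure R Ω)) [𝔪.IsMaximal] :
    (𝔪.comap (closureMap R L)).IsMaximal := by
  letI : Algebra ↥(integralClosure R L) ↥(integralClosure R Ω) := (closureMap R L).toAlgebra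
  haveI : IsScalarTower R ↥(integralClosure R L) ↥(integralClosure R Ω) := IsScalarTower.of_algebraMap_eq fun r =>
    Subtype.ext (IsScalarTower.algebraMap_apply R L Ω r)
  haveI : Algebra.IsIntegral ↥(integralClosure R L) ↥(integralClosure R Ω) := ⟨fun x =>
    IsIntegral.tower_top (R := R) (IsIntegralClosure.isIntegral R Ω x)⟩
  exact Ideal.isMaximal_comap_of_isIntegral_of_isMaximal 𝔪

variable (R K : Type u) {L : Type u} [CommRing R] [IsDomain R] [IsLocalRing R] [IsIntegrallyClosed R] [IsNoetherianRing R]
  [Field K] [Field L] [Algebra R K] [IsFractionRing R K] [Algebra K L] [Algebra R L] [IsScalarTower R K L]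
  [FiniteDimensional K L] [Algebra.IsSeparable K L] (hreg : CAlg.IsRegularHom R (EGA4.Cpl R))

include K hreg in
/-- A localisation of the integral closure has a normal domain as completion, into which the completion of the base injects. -/
theorem local_facts (A : Subalgebra R L) [IsLocalRing ↥A] (n : Ideal ↥(integralClosure R L)) [n.IsMaximal]
    (hle : integralClosure R L ≤ A)
    (hloc : letI := (Subalgebra.inclusion hle).toAlgebra; IsLocalization.AtPrime ↥A n) :
    IsNoetherianRing ↥A ∧ IsDomain (EGA4.Cpl ↥A) ∧ IsIntegrallyClosed (EGA4.Cpl ↥A) ∧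
      (maximalIdeal R).map (algebraMap R ↥A) ≤ maximalIdeal ↥A ∧
      ∀ ψ : EGA4.Cpl R →+* EGA4.Cpl ↥A,
        (∀ r, ψ (algebraMap R (EGA4.Cpl R) r) = algebraMap ↥A (EGA4.Cpl ↥A) (algebraMap R ↥A r)) →
          ψ.IsIntegral ∧ Function.Injective ψ := by
  letI : Algebra (integralClosure R L) ↥A := (Subalgebra.inclusion hle).toAlgebra
  haveI : IsLocalization.AtPrime ↥A n := hloc
  haveI : Module.Finite R (integralClosure R L) := IsIntegralClosure.finite R K L _
  haveI : IsNoetherianRing (integralClosure R L) := IsNoetherianRing.of_finite R _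
  haveI : IsNoetherianRing ↥A := IsLocalization.isNoetherianRing n.primeCompl _ inferInstance
  haveI : IsIntegrallyClosed (integralClosure R L) := integralClosure.isIntegrallyClosedOfFiniteExtension K
  haveI : IsIntegrallyClosed ↥A :=
    isIntegrallyClosed_of_isLocalization _ n.primeCompl n.primeCompl_le_nonZeroDivisors
  obtain ⟨hd, hc⟩ := normal_cpl (GRingFinLib.isRegularHom_cpl_of_finite R (integralClosure R L) ↥A n hreg)
  haveI := (normal_cpl hreg).1
  refine ⟨inferInstance, hd, hc,
    le_trans (le_of_eq rfl) (map_maximalIdeal_le (R := R) (C := integralClosure R L) (C' := ↥A) n), fun ψ hψ =>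
      ⟨isIntegral_lift n ψ fun r => (hψ r).trans rfl, injective_lift n ?_ ψ fun r => (hψ r).trans rfl⟩⟩
  intro r s h
  refine IsFractionRing.injective R K ((algebraMap K L).injective ?_)
  rw [← IsScalarTower.algebraMap_apply, ← IsScalarTower.algebraMap_apply]
  exact congrArg Subtype.val h

end EtAlgCplLib
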