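import Groth.Agent.EtAlgCplLib.Basic

/-!
# Local rings of integral closures in compositum extensions
-/

set_option autoImplicit false
set_option maxHeartbeats 1000000
set_option linter.style.haveILetI false

universe u

open IsLocalRing

namespace EtAlgCplLib

/-- The elements of a domain which are quotients of elements of a subring. -/
def fracClosure {B : Type u} [CommRing B] [IsDomain B] (D : Subring B) : Subring B where
  carrier := {x | ∃ a b : B, a ∈ D ∧ b ∈ D ∧ b ≠ 0 ∧ x * b = a}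
  mul_mem' := fun {x y} ⟨a, b, ha, hb, hb0, h⟩ ⟨c, d, hc, hd, hd0, h'⟩ =>
    ⟨a * c, b * d, mul_mem ha hc, mul_mem hb hd, mul_ne_zero hb0 hd0, by rw [← h, ← h']; ring⟩
  add_mem' := fun {x y} ⟨a, b, ha, hb, hb0, h⟩ ⟨c, d, hc, hd, hd0, h'⟩ =>
    ⟨a * d + c * b, b * d, add_mem (mul_mem ha hd) (mul_mem hc hb), mul_mem hb hd, mul_ne_zero hb0 hd0,
      by rw [← h, ← h']; ring⟩
  neg_mem' := fun {x} ⟨a, b, ha, hb, hb0, h⟩ => ⟨-a, b, neg_mem ha, hb, hb0, by rw [neg_mul, h]⟩
  one_mem' := ⟨1, 1, one_mem D, one_mem D, one_ne_zero, one_mul 1⟩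
  zero_mem' := ⟨0, 1, zero_mem D, one_mem D, one_ne_zero, zero_mul 1⟩

theorem le_fracClosure {B : Type u} [CommRing B] [IsDomain B] {D : Subring B} {x : B} (hx : x ∈ D) :
    x ∈ fracClosure D := ⟨x, 1, hx, one_mem D, one_ne_zero, mul_one x⟩

theorem mem_of_mul_mem {B : Type u} [CommRing B] [IsDomain B] {D : Subring B} {x y : B} (hxy : x * y ∈ fracClosure D)
    (hy : y ∈ fracClosure D) (hy0 : y ≠ 0) : x ∈ fracClosure D := by
  obtain ⟨a, b, ha, hb, hb0, h⟩ := hxy
  obtain ⟨c, d, hc, hd, hd0, h'⟩ := hy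
  have hc0 : c ≠ 0 := h' ▸ mul_ne_zero hy0 hd0
  exact ⟨a * d, b * c, mul_mem ha hd, mul_mem hb hc, mul_ne_zero hb0 hc0, by rw [← h, ← h']; ring⟩

/-- A fraction which is regular at a prime above is regular at the prime below. -/
theorem exists_denominator {B C L Ω : Type u} [CommRing B] [IsDomain B] [IsIntegrallyClosed B] [IsNoetherianRing B]
    [CommRing C] [IsDomain C] [Algebra B C] [FaithfulSMul B C] [Algebra.IsIntegral B C] [Field L] [Algebra B L]
    [IsFractionRing B L] [Field Ω] [Algebra C Ω] [FaithfulSMul C Ω] [Algebra L Ω] [Algebra B Ω] [IsScalarTower B C Ω]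
    [IsScalarTower B L Ω] (𝔪 : Ideal C) [𝔪.IsPrime] (z : L) (a b : C) (hb : b ∉ 𝔪)
    (hz : algebraMap L Ω z * algebraMap C Ω b = algebraMap C Ω a) :
    ∃ c d : B, c ∉ 𝔪.comap (algebraMap B C) ∧ z * algebraMap B L c = algebraMap B L d := by
  let colon : B → Ideal B := fun c₀ =>
    Submodule.comap (((LinearMap.mulLeft B z).comp (Algebra.linearMap B L)).comp (LinearMap.mulRight B c₀))
      (LinearMap.range (Algebra.linearMap B L))
  have hmem : ∀ c₀ c : B, c ∈ colon c₀ ↔ ∃ d, algebraMap B L d = z * algebraMap B L (c * c₀) := fun c₀ c => Iff.rfl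
  let n := 𝔪.comap (algebraMap B C)
  by_contra hcon
  push Not at hcon
  have h1 : colon 1 ≤ n := fun c hc => by
    obtain ⟨d, hd⟩ := (hmem 1 c).1 hc
    by_contra hcn
    exact hcon c d hcn (by rw [hd, mul_one])
  obtain ⟨P, ⟨⟨c₀, hPc⟩, hPn⟩, hmax⟩ := set_has_maximal_iff_noetherian.2 inferInstance
    {J : Ideal B | (∃ c₀, J = colon c₀) ∧ J ≤ n} ⟨colon 1, ⟨1, rfl⟩, h1⟩
  have hne : P ≠ ⊤ := fun h => (inferInstance : n.IsPrime).ne_top (top_le_iff.1 (h ▸ hPn))
  haveI hPprime : Ideal.IsPrime (P : Ideal B) := by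
    refine ⟨hne, fun {p q} hpq => or_iff_not_imp_left.2 fun hp => ?_⟩
    subst hPc
    have hsub : ∀ e : B, colon c₀ ≤ colon (c₀ * e) := fun e c hc => by
      obtain ⟨d, hd⟩ := (hmem _ c).1 hc
      exact (hmem _ c).2 ⟨d * e, by rw [map_mul, hd, ← mul_assoc, map_mul, map_mul, map_mul]; ring⟩
    by_cases hle : colon (c₀ * p) ≤ n
    · have hnl := hmax (colon (c₀ * p)) ⟨⟨_, rfl⟩, hle⟩
      have heq : colon c₀ = colon (c₀ * p) := le_antisymm (hsub p) (by
        by_contra h; exact hnl (lt_of_le_not_ge (hsub p) h))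
      rw [heq]
      obtain ⟨d, hd⟩ := (hmem _ _).1 hpq
      exact (hmem _ q).2 ⟨d, by rw [hd]; congr 2; ring⟩
    · obtain ⟨e, he, hen⟩ := SetLike.not_le_iff_exists.1 hle
      have hle' : colon (c₀ * e) ≤ n := fun c hc => by
        obtain ⟨d, hd⟩ := (hmem _ c).1 hc
        have hmul : c * e ∈ colon c₀ := (hmem _ _).2 ⟨d, by rw [hd]; congr 2; ring⟩
        exact ((inferInstance : n.IsPrime).mem_or_mem (hPn hmul)).resolve_right hen
      have hnl := hmax (colon (c₀ * e)) ⟨⟨_, rfl⟩, hle'⟩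
      have heq : colon c₀ = colon (c₀ * e) := le_antisymm (hsub e) (by
        by_contra h; exact hnl (lt_of_le_not_ge (hsub e) h))
      obtain ⟨d, hd⟩ := (hmem _ e).1 he
      exact absurd (heq ▸ (hmem _ p).2 ⟨d, by rw [hd]; congr 2; ring⟩) hp
  subst hPc
  let y : L := z * algebraMap B L c₀
  have hy : ∀ p ∈ colon c₀, ∃ d ∈ colon c₀, algebraMap B L d = y * algebraMap B L p := by
    intro p hp
    obtain ⟨d, hd⟩ := (hmem _ p).1 hp
    have hd' : algebraMap B L d = y * algebraMap B L p := by rw [hd, map_mul]; ring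
    refine ⟨d, ?_, hd'⟩
    haveI : 𝔪.LiesOver n := ⟨rfl⟩
    obtain ⟨Q, hQle, hQp, hQlo⟩ := Ideal.exists_ideal_le_liesOver_of_le (p := colon c₀) 𝔪 hPn
    have hbQ : b ∉ Q := fun h => hb (hQle h)
    have key : algebraMap B C d * b = algebraMap B C (p * c₀) * a := by
      refine FaithfulSMul.algebraMap_injective C Ω ?_
      rw [map_mul, map_mul, ← hz, ← IsScalarTower.algebraMap_apply B C Ω, ← IsScalarTower.algebraMap_apply B C Ω,
        IsScalarTower.algebraMap_apply B L Ω d, hd, map_mul (algebraMap L Ω), ← IsScalarTower.algebraMap_apply B L Ω]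
      ring
    have hmemQ : algebraMap B C d * b ∈ Q := by
      rw [key, map_mul, mul_assoc]
      exact Ideal.mul_mem_right _ _ ((Ideal.mem_of_liesOver Q (colon c₀) p).1 hp)
    exact (Ideal.mem_of_liesOver Q (colon c₀) d).2 ((hQp.mem_or_mem hmemQ).resolve_right hbQ)
  have hP0 : colon c₀ ≠ ⊥ := fun h => by
    obtain ⟨u, v, hv, hzuv⟩ := IsFractionRing.div_surjective (A := B) y
    have hv0 : algebraMap B L v ≠ 0 := IsFractionRing.to_map_ne_zero_of_mem_nonZeroDivisors hv
    have hvP : v ∈ colon c₀ := (hmem _ v).2 ⟨u, by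
      rw [map_mul, ← mul_assoc, mul_right_comm, show z * algebraMap B L c₀ = y from rfl, ← hzuv,
        div_mul_cancel₀ _ hv0]⟩
    rw [h, Ideal.mem_bot] at hvP
    exact hv0 (by rw [hvP, map_zero])
  have hint : IsIntegral B y := by
    refine isIntegral_of_smul_mem_submodule (R := B) (A := L) (M := L) (Submodule.map (Algebra.linearMap B L) (colon c₀))
      ?_ ((IsNoetherian.noetherian (colon c₀)).map _) y ?_
    · intro h
      refine hP0 (eq_bot_iff.2 fun p hp => ?_)
      have : algebraMap B L p ∈ (⊥ : Submodule B L) := h ▸ ⟨p, hp, rfl⟩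
      rw [Submodule.mem_bot] at this
      exact IsFractionRing.injective B L (by rw [this, map_zero])
    · rintro _ ⟨p, hp, rfl⟩
      obtain ⟨d, hd, hd'⟩ := hy p hp
      exact ⟨d, hd, hd'⟩
  obtain ⟨d, hd⟩ := IsIntegrallyClosed.algebraMap_eq_of_integral hint
  refine hne ((Ideal.eq_top_iff_one _).2 ((hmem _ 1).2 ⟨d, ?_⟩))
  rw [hd, one_mul]

section

variable {R K L Ω : Type u} [CommRing R] [IsDomain R] [Field K] [Field L] [Field Ω] [Algebra R K] [IsFractionRing R K]
  [Algebra K L] [Algebra K Ω] [Algebra L Ω] [IsScalarTower K L Ω] [Algebra R L] [Algebra R Ω] [IsScalarTower R K L]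
  [IsScalarTower R K Ω] [IsScalarTower R L Ω]
  {𝔪 : Ideal ↥(integralClosure R Ω)} [𝔪.IsMaximal] {A : Subalgebra R Ω}
  (hA : ∀ z : Ω, z ∈ A ↔ ∃ a b : ↥(integralClosure R Ω), b ∉ 𝔪 ∧ z * (b : Ω) = (a : Ω))

include hA in
theorem closure_le : integralClosure R Ω ≤ A := fun x hx =>
  (hA x).2 ⟨⟨x, hx⟩, 1, fun h => (inferInstance : 𝔪.IsPrime).ne_top ((Ideal.eq_top_iff_one _).2 h), mul_one x⟩

include hA in
theorem isLocalization_A :
    letI := (Subalgebra.inclusion (closure_le hA)).toAlgebra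
    IsLocalization.AtPrime ↥A 𝔪 := by
  letI := (Subalgebra.inclusion (closure_le hA)).toAlgebra
  refine ⟨⟨?_, ?_, ?_⟩⟩
  · rintro ⟨b, hb⟩
    have hb0 : (b : Ω) ≠ 0 := fun h => hb ((Subtype.ext h : b = 0) ▸ zero_mem 𝔪)
    exact IsUnit.of_mul_eq_one (⟨(b : Ω)⁻¹, (hA _).2 ⟨1, b, hb, by rw [inv_mul_cancel₀ hb0]; rfl⟩⟩ : ↥A)
      (Subtype.ext (mul_inv_cancel₀ hb0))
  · intro z
    obtain ⟨a, b, hb, h⟩ := (hA z).1 z.2
    exact ⟨⟨a, ⟨b, hb⟩⟩, Subtype.ext h⟩
  · intro x y h
    exact ⟨1, by simp [Subtype.ext (show (x : Ω) = (y : Ω) from congrArg (fun t : ↥A => (t : Ω)) h)]⟩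

variable (R L) in
/-- The map of integral closures. -/
noncomputable def closureMap : ↥(integralClosure R L) →+* ↥(integralClosure R Ω) :=
  (((algebraMap L Ω).comp (integralClosure R L).val.toRingHom).codRestrict (integralClosure R Ω).toSubring
    fun x => IsIntegral.map (IsScalarTower.toAlgHom R L Ω) x.2)

include hA in
theorem closure_le_comap : integralClosure R L ≤ A.comap (IsScalarTower.toAlgHom R L Ω) := fun x hx =>
  closure_le hA (show algebraMap L Ω x ∈ integralClosure R Ω from IsIntegral.map (IsScalarTower.toAlgHom R L Ω) hx)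

variable [IsIntegrallyClosed R] [IsNoetherianRing R] [FiniteDimensional K L] [Algebra.IsSeparable K L]

include hA K in
theorem isLocalization_comap :
    letI := (Subalgebra.inclusion (closure_le_comap (L := L) hA)).toAlgebra
    IsLocalization.AtPrime ↥(A.comap (IsScalarTower.toAlgHom R L Ω)) (𝔪.comap (closureMap R L)) := by
  letI := (Subalgebra.inclusion (closure_le_comap (L := L) hA)).toAlgebra
  let B := integralClosure R L
  let C := integralClosure R Ω
  letI : Algebra B C := (closureMap R L).toAlgebra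
  haveI : IsFractionRing B L := integralClosure.isFractionRing_of_finite_extension K L
  haveI : IsIntegrallyClosed B := integralClosure.isIntegrallyClosedOfFiniteExtension K
  haveI : IsIntegralClosure B R L := inferInstance
  haveI : Module.Finite R B := IsIntegralClosure.finite R K L B
  haveI : IsNoetherianRing B := IsNoetherianRing.of_finite R B
  haveI : FaithfulSMul B C := (faithfulSMul_iff_algebraMap_injective B C).2 fun x y h =>
    Subtype.ext ((algebraMap L Ω).injective (congrArg Subtype.val h))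
  haveI : IsScalarTower B C Ω := IsScalarTower.of_algebraMap_eq fun _ => rfl
  haveI : IsScalarTower B L Ω := IsScalarTower.of_algebraMap_eq fun _ => rfl
  haveI : IsScalarTower R B C := IsScalarTower.of_algebraMap_eq fun r => Subtype.ext
    (IsScalarTower.algebraMap_apply R L Ω r)
  haveI : Algebra.IsIntegral R C := IsIntegralClosure.isIntegral_algebra R Ω
  haveI : Algebra.IsIntegral B C := ⟨fun x => IsIntegral.tower_top (R := R) (Algebra.IsIntegral.isIntegral x)⟩
  refine ⟨⟨?_, ?_, ?_⟩⟩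
  · rintro ⟨b, hb⟩
    have hb0 : (b : L) ≠ 0 := fun h => hb ((Subtype.ext h : b = 0) ▸ zero_mem _)
    have hinv : (b : L)⁻¹ ∈ A.comap (IsScalarTower.toAlgHom R L Ω) := by
      show algebraMap L Ω (b : L)⁻¹ ∈ A
      refine (hA _).2 ⟨1, closureMap R L b, hb, ?_⟩
      show algebraMap L Ω (b : L)⁻¹ * algebraMap L Ω (b : L) = 1
      rw [← map_mul, inv_mul_cancel₀ hb0, map_one]
    exact IsUnit.of_mul_eq_one (⟨(b : L)⁻¹, hinv⟩ : ↥(A.comap (IsScalarTower.toAlgHom R L Ω)))
      (Subtype.ext (mul_inv_cancel₀ hb0))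
  · intro z
    obtain ⟨a, b, hb, h⟩ := (hA _).1 z.2
    obtain ⟨c, d, hc, hcd⟩ := exists_denominator (B := B) (C := C) (L := L) (Ω := Ω) 𝔪 (z : L) a b hb h
    exact ⟨⟨d, ⟨c, hc⟩⟩, Subtype.ext hcd⟩
  · intro x y h
    exact ⟨1, by simp [Subtype.ext (show (x : L) = (y : L) from congrArg (fun t : ↥(A.comap (IsScalarTower.toAlgHom R L Ω)) => (t : L)) h)]⟩

end

end EtAlgCplLib
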